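import Cfsg.Agent.Spor.FsLin
import Cfsg.Agent.Class.SpCore
import Cfsg.Agent.LX.Sh

/-!
# A symplectic group from a Gram function closed under sums
-/

set_option autoImplicit false

namespace Cfsg.Lib.LX

open Module Cfsg.Lib.Class

variable {X H : Type*} [Group H]

theorem exists_spB {V : Type*} [AddCommGroup V] [Module (ZMod 2) V] [Finite V]
    {B : LinearMap.BilinForm (ZMod 2) V} (hB : B.Nondegenerate) (hA : B.IsAlt)
    (σ : H →* Equiv.Perm X) (v : X → V) (hi : Function.Injective v) (h0 : ∀ x, v x ≠ 0)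
    (hs : ∀ u, u ≠ 0 → ∃ x, v x = u) (hσ : ∀ h x y, B (v (σ h x)) (v (σ h y)) = B (v x) (v y))
    (htv : ∀ x, ∃ h, ∀ y, v (σ h y) = v y + B (v y) (v x) • v x) :
    ∃ Φ : H →* SpB B, Function.Surjective Φ ∧ ∀ h, Φ h = 1 ↔ σ h = 1 := by
  classical
  let φ : H → V → V := fun h u => if hu : ∃ x, v x = u then v (σ h hu.choose) else 0
  have φv : ∀ h x, φ h (v x) = v (σ h x) := fun h x => by
    have hu : ∃ y, v y = v x := ⟨x, rfl⟩
    simp only [φ, dif_pos hu, hi hu.choose_spec]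
  have φ0 : ∀ h, φ h 0 = 0 := fun h => dif_neg fun ⟨x, e⟩ => h0 x e
  have ind : ∀ {p : V → Prop}, p 0 → (∀ x, p (v x)) → ∀ u, p u := fun {p} a b u => by
    by_cases c : u = 0
    · exact c ▸ a
    · obtain ⟨x, rfl⟩ := hs u c; exact b x
  have φB : ∀ h u w, B (φ h u) (φ h w) = B u w := fun h =>
    ind (by simp [φ0]) fun x => ind (by simp [φ0]) fun y => by rw [φv, φv, hσ]
  have φm : ∀ h k u, φ (h * k) u = φ h (φ k u) := fun h k =>
    ind (by simp [φ0]) fun x => by simp [φv]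
  have φ1 : ∀ u, φ 1 u = u := ind (φ0 1) fun x => by simp [φv]
  have φa : ∀ h u w, φ h (u + w) = φ h u + φ h w := fun h u w => by
    rw [← sub_eq_zero]
    refine hB.1 _ fun s => ?_
    rw [← φ1 s, ← mul_inv_cancel h, φm]
    simp only [map_sub, map_add, LinearMap.sub_apply, LinearMap.add_apply, φB, sub_self]
  let L : H → V →ₗ[ZMod 2] V := fun h => (AddMonoidHom.mk' (φ h) (φa h)).toZModLinearMap 2
  let Φ : H →* SpB B := MonoidHom.mk' (fun h => ⟨LinearEquiv.ofLinearMap (L h) (L h⁻¹)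
      (LinearMap.ext fun u => show φ h (φ h⁻¹ u) = u by rw [← φm, mul_inv_cancel, φ1])
      (LinearMap.ext fun u => show φ h⁻¹ (φ h u) = u by rw [← φm, inv_mul_cancel, φ1]), φB h⟩)
    fun h k => Subtype.ext (LinearEquiv.ext (φm h k))
  have Φa : ∀ h u, (Φ h : V ≃ₗ[ZMod 2] V) u = φ h u := fun _ _ => rfl
  refine ⟨Φ, MonoidHom.range_eq_top.1 (SpB_eq_top_of_spT_mem hB hA _ fun w c => ?_), fun h =>
    ⟨fun e => Equiv.ext fun x => hi (by rw [← φv, ← Φa, e]; rfl), fun e =>
      Subtype.ext (LinearEquiv.ext (ind (φ0 h) fun x => by rw [Φa, φv, e]; rfl))⟩⟩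
  rcases z2_cases c with rfl | rfl
  · rw [spT_zero]; exact one_mem _
  revert w
  refine ind (by rw [spT_zero_left]; exact one_mem _) fun x => ?_
  obtain ⟨h, e⟩ := htv x
  exact ⟨h, Subtype.ext (LinearEquiv.ext (ind (by simp) fun y => by
    rw [Φa, φv, e, coe_spT, altTEquiv_apply', one_mul]))⟩

theorem exists_sp6 [Finite X] (σ : H →* Equiv.Perm X) (f : X → X → ZMod 2)
    (hs : ∀ x y, f x y = f y x) (h0 : ∀ x, f x x = 0) (hne : ∀ x, ∃ y, f x y = 1)
    (hsum : ∀ x y, x ≠ y → ∃ w, ∀ s, f s w = f s x + f s y)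
    (hσ : ∀ h x y, f (σ h x) (σ h y) = f x y)
    (htv : ∀ x, ∃ h, ∀ y s, f s (σ h y) = f s y + f y x * f s x)
    (hlo : 16 ≤ Nat.card X) (x₀ : X) (hhi : Nat.card {y // f x₀ y = 1} < 128) :
    ∃ Φ : H →* Matrix.symplecticGroup (Fin 3) (ZMod 2),
      Function.Surjective Φ ∧ ∀ h, Φ h = 1 ↔ σ h = 1 := by
  obtain ⟨n, B, v, b1, b2, b3, b4⟩ := Spor.exists_gram (σ := RingHom.id (ZMod 2)) (fun _ => rfl) f hs
  replace b1 : ∀ u w, B u w = B w u := b1
  have ext0 : ∀ u, (∀ s, B (v s) u = 0) → u = 0 := fun u k => b2 u fun t => by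
    have ht : t ∈ Submodule.span (ZMod 2) (Set.range v) := b3 ▸ Submodule.mem_top
    induction ht using Submodule.span_induction with
    | mem _ hx => obtain ⟨x, rfl⟩ := hx; exact k x
    | zero => simp
    | add _ _ _ _ h1 h2 => rw [map_add, LinearMap.add_apply, h1, h2, add_zero]
    | smul _ _ _ h1 => rw [map_smul, LinearMap.smul_apply, h1, smul_zero]
  have ext : ∀ u w, (∀ s, B (v s) u = B (v s) w) → u = w := fun u w k =>
    sub_eq_zero.1 (ext0 _ fun s => by rw [map_sub, k, sub_self])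
  have v0 : ∀ x, v x ≠ 0 := fun x e => by
    obtain ⟨y, hy⟩ := hne x
    rw [← b4, e] at hy
    simp at hy
  have sum : ∀ x y, x ≠ y → ∃ w, v w = v x + v y := fun x y n =>
    (hsum x y n).imp fun w k => ext _ _ fun s => by rw [map_add, b4, b4, b4, k]
  have hi : Function.Injective v := fun x y e => by_contra fun n => by
    obtain ⟨w, k⟩ := sum x y n
    exact v0 w (by rw [k, e, add_self'])
  have sj : ∀ u, u ≠ 0 → ∃ x, v x = u := fun u => by
    have ht : u ∈ Submodule.span (ZMod 2) (Set.range v) := b3 ▸ Submodule.mem_top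
    rw [← or_iff_not_imp_left]
    induction ht using Submodule.span_induction with
    | mem _ hx => exact Or.inr hx
    | zero => exact Or.inl rfl
    | add _ _ _ _ h1 h2 =>
      rcases h1 with rfl | ⟨x, rfl⟩
      · rwa [zero_add]
      rcases h2 with rfl | ⟨y, rfl⟩
      · exact Or.inr ⟨x, (add_zero _).symm⟩
      by_cases n : x = y
      · exact Or.inl (by rw [n, add_self'])
      · exact Or.inr (sum x y n)
    | smul c _ _ h1 => rcases z2_cases c with rfl | rfl <;> simp [h1]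
  have hB : LinearMap.BilinForm.Nondegenerate B := ⟨fun u k => b2 u fun w => by rw [b1, k], b2⟩
  have hA : LinearMap.BilinForm.IsAlt B := fun u => by
    by_cases c : u = 0
    · simp [c]
    · obtain ⟨x, rfl⟩ := sj u c; rw [b4, h0]
  obtain ⟨m, hm⟩ := even_finrank_of_isAlt hB hA
  have cU := card_eq_pow (V := Fin n → ZMod 2)
  have c1 : Nat.card (Option X) ≤ Nat.card (Fin n → ZMod 2) :=
    Nat.card_le_card_of_injective (fun x => x.elim 0 v) (by
      rintro (_ | x) (_ | y) e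
      exacts [rfl, (v0 y e.symm).elim, (v0 x e).elim, congrArg _ (hi e)])
  have c2 : Nat.card (Fin n → ZMod 2) ≤ Nat.card ({y // f x₀ y = 1} × ZMod 2) := by
    obtain ⟨y₀, hy⟩ := hne x₀
    refine Nat.card_le_card_of_surjective (fun p => v p.1 + p.2 • v y₀) fun u => ?_
    have k : B (v x₀) (u + (B (v x₀) u + 1) • v y₀) = 1 := by
      rw [map_add, map_smul, b4, hy, smul_eq_mul, mul_one, add_add_cancel']
    obtain ⟨y, e⟩ := sj (u + (B (v x₀) u + 1) • v y₀) fun e => by simp [e] at k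
    exact ⟨(⟨y, by rw [← b4, e, k]⟩, B (v x₀) u + 1), by simp only [e, add_add_cancel'']⟩
  rw [Finite.card_option, cU, hm] at c1
  rw [Nat.card_prod, Nat.card_zmod, cU, hm] at c2
  obtain rfl : m = 3 := by
    have := (Nat.pow_lt_pow_iff_right (a := 2) (n := 4) (m := m + m) (by norm_num)).1 (by omega)
    have := (Nat.pow_lt_pow_iff_right (a := 2) (n := m + m) (m := 8) (by norm_num)).1 (by omega)
    omega
  obtain ⟨g, hg⟩ := exists_equiv_sympForm hB hA (m := 3) hm
  have hg' : ∀ u w, sympBilin 3 (ZMod 2) (g.symm u) (g.symm w) = B u w := fun u w => by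
    rw [sympBilin_apply, ← hg]; simp
  obtain ⟨Φ, h1, h2⟩ := exists_spB (sympBilin_nondegenerate 3) (sympBilin_isAlt 3) σ (g.symm ∘ v)
    (g.symm.injective.comp hi) (fun x => by simpa using v0 x)
    (fun u n => (sj (g u) (by simpa using n)).imp fun x e => by simp [e])
    (fun h x y => by simp only [Function.comp, hg', b4, hσ])
    fun x => (htv x).imp fun h k y => by
      simp only [Function.comp, hg', ← map_smul, ← map_add]
      exact congrArg _ (ext _ _ fun s => by rw [map_add, map_smul, b4, b4, b4, b4, k, smul_eq_mul])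
  exact ⟨(spEquivSpB 3 (ZMod 2)).symm.toMonoidHom.comp Φ,
    (spEquivSpB 3 (ZMod 2)).symm.surjective.comp h1, fun h => by simp [← h2]⟩

end Cfsg.Lib.LX
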