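import Cfsg.Agent.LXG.W6

/-!
# The normal structure of a core-free group with a large extraspecial subgroup

The lemmas of `SporChar/LargeXStruct` under the hypothesis that the core is trivial.
-/

set_option autoImplicit false

namespace Cfsg.Lib.LX.Cf

open Subgroup Cfsg.Lib.Local Cfsg.Lib.Solv Cfsg.Lib.Trans
open scoped Pointwise commutatorElement

variable {G : Type*} [Group G] [Finite G] {Q : Subgroup G} {z : G}

theorem two_dvd_of (hl : pPrimeCore 2 G = ⊥) {N : Subgroup G} (hN : N.IsSubnormal) (h1 : N ≠ ⊥) :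
    2 ∣ Nat.card N := by_contra fun c => h1 (eq_bot_iff.2 (hl ▸ le_pPrimeCore_of_isSubnormal hN
      ((Nat.Prime.coprime_iff_not_dvd Nat.prime_two).2 c).symm))

theorem mem_of_even (h : PreLX Q z) {N : Subgroup G}
    (hN : Q ≤ normalizer (N : Set G)) (h1 : 2 ∣ Nat.card N) : z ∈ N := by
  obtain ⟨T, hT, hQT⟩ := exists_isSylowIn_ge h.isPGroup (le_sup_right : Q ≤ N ⊔ Q)
  have hS := hT.inf_normal_of_le (sup_le le_normalizer hN) le_sup_left
  obtain ⟨c, hc, hcQ, -, hc2⟩ := PG.exists_mem_centralizer_orderOf_eq h.isPGroup hS.isPGroup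
    (le_normalizer_inf (hQT.trans le_normalizer) hN) fun e => hS.eq_bot_iff.mp e h1
  rcases h.mem_iff.mp (h.cent hcQ) with e | e
  · rw [e, orderOf_one] at hc2; omega
  · exact e ▸ hc.2

theorem mem_of_normal' (h : PreLX Q z) (hl : pPrimeCore 2 G = ⊥) {N : Subgroup G} [N.Normal]
    (h1 : N ≠ ⊥) : z ∈ N :=
  mem_of_even h le_normalizer_of_normal (two_dvd_of hl (Normal.isSubnormal inferInstance) h1)

theorem mem_center_pCore' (h : PreLX Q z) (hl : pPrimeCore 2 G = ⊥) (h2 : pCore 2 G ≠ ⊥) :
    z ∈ pCore 2 G ⊓ centralizer (pCore 2 G : Set G) := by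
  refine mem_of_normal' h hl fun e => ?_
  obtain ⟨c, hc, hcQ, -, hc2⟩ := PG.exists_mem_centralizer_orderOf_eq (pCore_isPGroup 2 G)
    (pCore_isPGroup 2 G) le_normalizer h2
  have : c ∈ pCore 2 G ⊓ centralizer (pCore 2 G : Set G) := ⟨hc, hcQ⟩
  rw [e, mem_bot] at this
  rw [this, orderOf_one] at hc2; omega

theorem fitting_eq_bot' (h : PreLX Q z) (hl : pPrimeCore 2 G = ⊥) (hE : layer G ≠ ⊥) :
    fittingSubgroup G = ⊥ := by
  refine fitting_eq_bot_iff_forall_pCore.mpr fun p _ => ?_
  by_cases hp : p = 2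
  · subst hp
    by_contra h2
    have h1 : layer G ≤ centralizer ({z} : Set G) := fun e he =>
      mem_centralizer_singleton_iff.mpr
        (commute_of_commutator_eq_bot (commutator_layer_pCore 2 G) he (mem_center_pCore' h hl h2).1)
    exact hE (eq_bot_of_perfect_of_le_isSolvable (layer_perfect G)
      (layer_le_of_centralizer_le (h1.trans h.norm) (h.cent.trans h.zpowers_le))
      (Coprime.isSolvable_of_isPGroup h.isPGroup))
  · rw [eq_bot_iff, ← hl]
    exact pCore_le_pPrimeCore_of_ne (Ne.symm hp)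

theorem exists_conj_component' (h : PreLX Q z) (hl : pPrimeCore 2 G = ⊥)
    {K L : Subgroup G} (hK : IsComponent K) (hL : IsComponent L) :
    ∃ q ∈ Q, L = MulAut.conj q • K := by
  have hF := fitting_eq_bot' h hl fun e => layer_eq_bot_iff.mp e K hK
  by_contra hne
  let p : Subgroup G → Prop := fun L => ∃ q ∈ Q, L = MulAut.conj q • K
  have hp : ∀ q ∈ Q, ∀ L, p L → p (MulAut.conj q • L) := by
    rintro q hq _ ⟨r, hr, rfl⟩
    exact ⟨q * r, Q.mul_mem hq hr, (conj_mul_smul _ _ _).symm⟩
  have key : ∀ (S : Set (Subgroup G)) (X : Subgroup G), X ∈ S → IsComponent X →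
      (∀ q ∈ Q, ∀ Y ∈ S, MulAut.conj q • Y ∈ S) → z ∈ sSup S := by
    intro S X hX h1 hS
    refine mem_of_even h (fun q hq => mem_normalizer_of_conj_mem ?_)
      ((two_dvd_of hl h1.1 (IsComponent.ne_bot h1)).trans (card_dvd_of_le (le_sSup hX)))
    have : sSup S ≤ (sSup S).comap (MulAut.conj q).toMonoidHom :=
      sSup_le fun Y hY y hy => le_sSup (hS q hq Y hY) (conj_mem_conj_smul q hy)
    exact fun y hy => this hy
  have h1 := key {L | IsComponent L ∧ p L} K ⟨hK, 1, one_mem _, by simp⟩ hK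
    fun q hq Y hY => ⟨IsComponent.conj_smul hY.1 q, hp q hq Y hY.2⟩
  have h2 := key {L | IsComponent L ∧ ¬ p L} L ⟨hL, hne⟩ hL
    fun q hq Y hY => ⟨IsComponent.conj_smul hY.1 q, fun h3 => hY.2 (by
      have := hp q⁻¹ (Q.inv_mem hq) _ h3
      rwa [conj_inv_smul_conj_smul] at this)⟩
  have h3 := commutator_sSup_components_eq_bot p
  have h4 : z ∈ layer G ⊓ centralizer (layer G : Set G) := by
    refine ⟨sSup_le (fun _ hY => IsComponent.le_layer hY.1) h1, ?_⟩
    have : layer G ≤ centralizer ({z} : Set G) := by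
      rw [layer_eq_sup p]
      exact sup_le (fun y hy => mem_centralizer_singleton_iff.mpr
        (commute_of_commutator_eq_bot h3 hy h2)) fun y hy => mem_centralizer_singleton_iff.mpr
        (commute_of_commutator_eq_bot h3 h1 hy).symm
    exact fun y hy => mem_centralizer_singleton_iff.mp (this hy)
  have := center_layer_le_fitting G h4
  rw [hF, mem_bot] at this
  exact h.ne_one this

theorem normalClosure_eq_layer' (h : PreLX Q z) (hl : pPrimeCore 2 G = ⊥) (hE : layer G ≠ ⊥) :
    normalClosure ({z} : Set G) = layer G := by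
  refine le_antisymm (normalClosure_le_normal (Set.singleton_subset_iff.mpr
    (mem_of_normal' h hl hE))) (layer_le_iff.mpr fun L hL => ?_)
  rcases inf_fitting_ne_bot_or_exists_isComponent (H := normalClosure ({z} : Set G))
    (Normal.isSubnormal inferInstance) (fun e => h.ne_one (by
      have := subset_normalClosure (Set.mem_singleton z)
      rw [e] at this; exact this)) with e | ⟨K, hK, hle⟩
  · rw [fitting_eq_bot' h hl hE, inf_bot_eq] at e; exact absurd rfl e
  · obtain ⟨q, -, rfl⟩ := exists_conj_component' h hl hK hL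
    exact conj_smul_le_iff.mpr fun k hk => Normal.conj_mem inferInstance k (hle hk) q

/-- The wreathed case of 8.8. -/
theorem wreathed' (h : PreLX Q z) (hl : pPrimeCore 2 G = ⊥) {K : Subgroup G}
    (hK : IsComponent K) {u : G} (hu : u ∈ Q) (hne : MulAut.conj u • K ≠ K) :
    K ⊔ MulAut.conj u • K = layer G ∧ ∃ a ∈ K, z = a * (u * a * u⁻¹) ∧
      IsSylowIn 2 (K ⊓ centralizer ({a} : Set G)) K ∧
      (∀ r ∈ K ⊓ centralizer ({a} : Set G), r * r ∈ zpowers a) ∧ Q ≠ qOf z := by
  have hE : layer G ≠ ⊥ := fun e => layer_eq_bot_iff.mp e K hK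
  have hF := fitting_eq_bot' h hl hE
  have hZ : K ⊓ centralizer (K : Set G) = ⊥ := eq_bot_iff.mpr
    ((IsComponent.center_le_center_layer hK).trans ((center_layer_le_fitting G).trans hF.le))
  have hcent : ∀ q : G, MulAut.conj q • K ≠ K → ∀ k ∈ K, q * k * q⁻¹ ∈ centralizer (K : Set G) :=
    fun q hq k hk y hy => commute_of_commutator_eq_bot (IsComponent.commutator_eq_bot_of_ne hK
      (IsComponent.conj_smul hK q) hq.symm) hy (conj_mem_conj_smul q hk)
  have hzE : z ∈ layer G := mem_of_normal' h hl hE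
  obtain ⟨a, ha, c, hc, hz⟩ := (Solv.mem_sup_of_le_normalizer (centralizer_le_normalizer _)).mp
    (IsComponent.layer_le_sup_centralizer hK hzE)
  have hac : a * c = c * a := hc a ha
  have ha2 : a * a = 1 := proj_eq hZ (K.mul_mem ha ha) (one_mem _) (mul_mem hc hc) (one_mem _) (by
    rw [one_mul, ← h.mul_self, ← hz, mul_assoc, ← mul_assoc a c, mul_assoc a c (a * c),
      ← mul_assoc c a c, ← hac])
  have hR : K ⊓ centralizer ({a} : Set G) = K ⊓ centralizer ({z} : Set G) := by
    ext r
    refine and_congr_right fun hr => ?_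
    change r ∈ centralizer _ ↔ r ∈ centralizer _
    rw [mem_centralizer_singleton_iff, mem_centralizer_singleton_iff, ← hz, mul_assoc, ← hc r hr,
      ← mul_assoc, ← mul_assoc, mul_left_inj]
  have ha1 : a ≠ 1 := by
    rintro rfl
    have h4 : z ∈ layer G ⊓ centralizer (layer G : Set G) := by
      refine ⟨hzE, ?_⟩
      have : layer G ≤ centralizer ({z} : Set G) := layer_le_iff.mpr fun L hL => by
        obtain ⟨q, hq, rfl⟩ := exists_conj_component' h hl hK hL
        refine conj_smul_le_iff.mpr fun k hk => mul_mem (mul_mem (h.le_cent hq) ?_)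
          (inv_mem (h.le_cent hq))
        rw [← hz, one_mul]; exact mem_centralizer_singleton_iff.mpr (hc k hk)
      exact fun y hy => mem_centralizer_singleton_iff.mp (this hy)
    have := center_layer_le_fitting G h4
    rw [hF, mem_bot] at this
    exact h.ne_one this
  have hproj : ∀ r ∈ K, ∀ d ∈ centralizer (K : Set G), r * d ∈ zpowers z → r ∈ zpowers a := by
    intro r hr d hd e
    rcases h.mem_iff.mp e with e | e
    · rw [proj_eq hZ hr (one_mem _) hd (one_mem _) (by rw [e, one_mul])]; exact one_mem _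
    · rw [proj_eq hZ hr ha hd hc (by rw [e, hz])]; exact mem_zpowers _
  have hw : ∀ r ∈ K ⊓ centralizer ({a} : Set G), r * (u * r⁻¹ * u⁻¹) ∈ Q := fun r hr => by
    have := Q.mul_mem (conj_mem_of_mem_normalizer (h.norm (hR.le hr).2) hu) (Q.inv_mem hu)
    simpa [mul_assoc] using this
  have hsq : ∀ r ∈ K ⊓ centralizer ({a} : Set G), r * r ∈ zpowers a := fun r hr => by
    have h1 := hcent u hne _ (K.inv_mem hr.1)
    refine hproj _ (K.mul_mem hr.1 hr.1) _ (mul_mem h1 h1) ?_
    have := h.sq_mem _ (hw r hr)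
    rwa [mul_assoc r, ← mul_assoc _ r, ← h1 r hr.1, mul_assoc r, ← mul_assoc r] at this
  have hao : orderOf a = 2 := orderOf_two_of_mul_self ha2 ha1
  have hpg : IsPGroup 2 (K ⊓ centralizer ({a} : Set G) : Subgroup G) := fun r => ⟨2, Subtype.ext (by
    have := hsq r r.2
    change (r : G) ^ 2 ^ 2 = 1
    rcases (mem_zpowers_iff_of_orderOf_two hao).mp this with e | e
    · rw [show (2 ^ 2 : ℕ) = 2 * 2 from rfl, pow_mul, sq (r : G), e, one_pow]
    · rw [show (2 ^ 2 : ℕ) = 2 * 2 from rfl, pow_mul, sq (r : G), e, sq, ha2])⟩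
  have hsyl : IsSylowIn 2 (K ⊓ centralizer ({a} : Set G)) K := by
    obtain ⟨T, hT, hQT⟩ := exists_isSylowIn_ge h.isPGroup (le_top : Q ≤ ⊤)
    have h1 := MSS.isSylowIn_inf_of_subnormalIn hT (SubnormalIn.top_iff.mpr hK.1)
    have h2 : T ⊓ K ≤ K ⊓ centralizer ({a} : Set G) := by
      rw [hR]; exact le_inf inf_le_right (inf_le_left.trans (h.le_cent_of_isPGroup hT.isPGroup hQT))
    rw [h1.eq_of_le hpg h2 inf_le_left]; exact h1
  have hbig : ¬ K ⊓ centralizer ({a} : Set G) ≤ zpowers a := fun hle =>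
    odd_of_perfect_of_cyclic_sylow (IsComponent.perfect hK) hsyl hle
      (hao ▸ K.orderOf_dvd_natCard ha)
  have htwo : ∀ q ∈ Q, MulAut.conj q • K = K ∨ MulAut.conj q • K = MulAut.conj u • K := by
    intro q hq
    by_contra hn
    push Not at hn
    refine hbig fun r hr => ?_
    have h3 : MulAut.conj (q * u) • K ≠ K := fun e => hn.2 (by
      have hk : MulAut.conj (u * u) • K = K := by
        rcases h.mem_iff.mp (h.sq_mem u hu) with e | e
        · rw [e]; simp
        · rw [e]; exact conj_smul_eq_of_mem_normalizer (IsComponent.layer_le_normalizer hK hzE)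
      have hk2 : MulAut.conj (u * q) • K = K := by
        rcases h.comm_or hu hq with e1 | e1
        · rw [e1, e]
        · rw [mul_inv_eq_iff_eq_mul, mul_assoc] at e1
          rw [e1, conj_mul_smul, e]
          exact conj_smul_eq_of_mem_normalizer (IsComponent.layer_le_normalizer hK hzE)
      have := hk2.trans hk.symm
      rw [conj_mul_smul, conj_mul_smul] at this
      exact smul_left_cancel _ this)
    have d1 := hcent q hn.1 r hr.1
    have d2 := hcent _ h3 _ (K.inv_mem hr.1)
    have d3 := hcent u hne _ (K.inv_mem hr.1)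
    refine hproj r hr.1 _ (mul_mem d3 (inv_mem (mul_mem d1 d2))) ?_
    have := h.comm_mem (hw r hr) hq
    convert this using 1; group
  have hsup : K ⊔ MulAut.conj u • K = layer G := by
    refine le_antisymm (sup_le (IsComponent.le_layer hK)
      (IsComponent.le_layer (IsComponent.conj_smul hK u))) (layer_le_iff.mpr fun L hL => ?_)
    obtain ⟨q, hq, rfl⟩ := exists_conj_component' h hl hK hL
    rcases htwo q hq with e | e <;> rw [e]
    exacts [le_sup_left, le_sup_right]
  have huK : MulAut.conj u • K ≤ centralizer (K : Set G) :=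
    conj_smul_le_iff.mpr (hcent u hne)
  refine ⟨hsup, a, ha, ?_, hsyl, hsq, fun e => hbig fun r hr => ?_⟩
  · obtain ⟨a', ha', b, hb, e⟩ := (Solv.mem_sup_of_le_normalizer
      (huK.trans (centralizer_le_normalizer _))).mp (hsup.ge hzE)
    obtain rfl := proj_eq hZ ha' ha (huK hb) hc (e.trans hz.symm)
    have h1 : u * b * u⁻¹ ∈ K := by
      have := conj_mem_conj_smul u hb
      rw [← conj_mul_smul] at this
      rcases htwo _ (Q.mul_mem hu hu) with e1 | e1
      · rwa [e1] at this
      · rw [conj_mul_smul] at e1; exact absurd (smul_left_cancel _ e1) hne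
    have h2 : (u * b * u⁻¹) * (u * a' * u⁻¹) = a' * b := by
      rw [e, ← mem_cent_iff_conj.mp (h.le_cent hu), ← e, huK hb a' ha]; group
    have h3 := proj_eq hZ h1 ha (hcent u hne _ ha) (huK hb) h2
    rw [h3, mul_right_inj] at h2
    rw [h2, e]
  · have : K ⊓ centralizer ({z} : Set G) ≤ qOf z := MSS.le_pCoreOf_of_subnormalIn
      (by simpa using (SubnormalIn.top_iff.mpr hK.1).inf_right (centralizer ({z} : Set G)))
      (hR ▸ hpg)
    refine hproj r hr.1 _ (hcent u hne _ (K.inv_mem hr.1)) ?_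
    have := h.comm_mem (e ▸ this (hR.le hr) : r ∈ Q) hu
    simpa [mul_assoc] using this

theorem isSimpleGroup_of_component' (h : PreLX Q z) (hl : pPrimeCore 2 G = ⊥) {K : Subgroup G}
    (hK : IsComponent K) : IsSimpleGroup K ∧ ¬ IsMulCommutative K := by
  have hF := fitting_eq_bot' h hl fun e => layer_eq_bot_iff.mp e K hK
  refine ⟨IsQuasisimple.isSimpleGroup_of_center_eq_bot hK.2 ?_,
    IsQuasisimple.not_isMulCommutative hK.2⟩
  rw [← map_eq_bot_iff_of_injective _ K.subtype_injective, Trans.map_subtype_center, eq_bot_iff]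
  exact (IsComponent.center_le_center_layer hK).trans ((center_layer_le_fitting G).trans hF.le)

theorem abelian_of_layer_eq_bot' (h : PreLX Q z) (hl : pPrimeCore 2 G = ⊥) (hE : layer G = ⊥) :
    normalClosure ({z} : Set G) ≤ centralizer (normalClosure ({z} : Set G) : Set G) ∧
      generalizedFittingSubgroup G = pCore 2 G := by
  have hF := genFitting_eq_pCore_iff'.mpr ⟨hE, hl⟩
  have : Nontrivial G := ⟨z, 1, h.ne_one⟩
  have h1 : normalClosure ({z} : Set G) ≤ pCore 2 G ⊓ centralizer (pCore 2 G : Set G) :=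
    normalClosure_le_normal (Set.singleton_subset_iff.mpr
      (mem_center_pCore' h hl (hF ▸ genFitting_ne_bot G)))
  exact ⟨(h1.trans inf_le_right).trans (centralizer_le (h1.trans inf_le_left)), hF⟩

theorem layer_eq_of_normalizes' (h : PreLX Q z) (hl : pPrimeCore 2 G = ⊥) {K : Subgroup G}
    (hK : IsComponent K) (hn : ∀ u ∈ Q, MulAut.conj u • K = K) : layer G = K :=
  le_antisymm (layer_le_iff.mpr fun L hL => by
    obtain ⟨q, hq, rfl⟩ := exists_conj_component' h hl hK hL
    exact (hn q hq).le) (IsComponent.le_layer hK)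

theorem _root_.Cfsg.Lib.LX.Gn.Pr.nc {o t : G} (hl : pPrimeCore 2 G = ⊥) (p : Gn.Pr o z t) :
    normalClosure ({z} : Set G) = generalizedFittingSubgroup G ∧
      IsSimpleGroup (normalClosure ({z} : Set G)) := by
  have h := p.wz.pre
  have hE : layer G ≠ ⊥ := fun e => p.not_comm (abelian_of_layer_eq_bot' h hl e).1
  obtain ⟨K, hK⟩ := exists_isComponent_of_layer_ne_bot hE
  rw [genFitting_eq_layer_of_fitting_eq_bot (fitting_eq_bot' h hl hE),
    normalClosure_eq_layer' h hl hE, layer_eq_of_normalizes' h hl hK fun u hu => by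
    by_contra hne
    obtain ⟨-, _, -, -, -, -, e⟩ := wreathed' h hl hK hu hne
    exact e rfl]
  exact ⟨rfl, (isSimpleGroup_of_component' h hl hK).1⟩

end Cfsg.Lib.LX.Cf
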