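import Cfsg.Agent.LXG.W4

/-!
# Weakly closed centre of a large extraspecial subgroup of width at least three, V

If all pairs are unitary, the class is a class of `3`-transpositions (after `LX/WC6`).
-/

set_option autoImplicit false
set_option linter.unusedSectionVars false

namespace Cfsg.Lib.LX.Gn

open Subgroup Cfsg.Lib.Local Cfsg.Lib.Solv Module Cfsg.Lib.Spor
open scoped Pointwise commutatorElement

universe u

variable {G : Type u} [Group G] {o : G} [Finite G] [Fact (Big o)] {z t : G}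

theorem IsU.coset {a b : G} (h : IsU o z a) (hb : IsU o z b) (hab : a * b ∈ qOf z) :
    b = a ∨ ∃ e ∈ qOf z, e ∈ qOf a ∧ e ≠ 1 ∧ b = a * (e * z) := by
  obtain ⟨x, hx, rfl⟩ := h.exists_conj hb.pr hb.not_sw hab
  obtain ⟨e, he, he', c | c⟩ := h.rk x hx
  · left
    rw [← h.pr.J_inter (c ▸ he'), mul_inv_cancel_right]
  · refine Or.inr ⟨e, he, he', ?_, by rw [h.pr.conj_eq, c]⟩
    rintro rfl
    exact h.not_sw ⟨x, hx, by rw [h.pr.conj_eq, c, one_mul, h.pr.comm]⟩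

omit [Finite G] [Fact (Big o)] in
theorem Pr.comm_coset {a e : G} (h : Pr o z a) (he' : e ∈ qOf a) :
    a * (a * (e * z)) = a * (e * z) * a := by
  rw [mul_assoc, mul_assoc, ← h.comm, ← mul_assoc e, h.wt.pre.central e he', mul_assoc]

/-- Commuting modulo the extraspecial group implies commuting. -/
theorem Pr.comm_of_mem (hS : AU o) {a b : G} (ha : Pr o z a) (hb : Pr o z b)
    (h : ⁅a, b⁆ ∈ qOf z) : a * b = b * a := by
  by_contra hn
  have Ua := ha.isU hS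
  have Ub := hb.isU hS
  have key : ∀ {a b : G}, IsU o z a → IsU o z b → ⁅a, b⁆ ∈ qOf z → a * b ≠ b * a →
      ∃ e ∈ qOf z, e ∈ qOf b ∧ e ≠ 1 ∧ ⁅a, b⁆ = e * z := by
    intro a b Ua Ub h hn
    have h1 : b * (a * b * a⁻¹) ∈ qOf z := by
      have := inv_mem h
      rwa [commutatorElement_inv, commutatorElement_def, Ub.pr.t_inv, mul_assoc, mul_assoc,
        ← mul_assoc a] at this
    rcases Ub.coset (Ub.conj' Ua.pr.memH) h1 with c | ⟨e, he, he', h1, c⟩
    · exact (hn (by rw [← c, inv_mul_cancel_right, c])).elim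
    · refine ⟨e, he, he', h1, ?_⟩
      rw [commutatorElement_def, c, Ub.pr.t_inv, ← Ub.pr.comm_coset he', ← mul_assoc, Ub.pr.tt,
        one_mul]
  obtain ⟨e, he, he', e1, c⟩ := key Ua Ub h hn
  obtain ⟨f, hf, hf', f1, c'⟩ := key Ub Ua (by rw [← commutatorElement_inv]; exact inv_mem h)
    (Ne.symm hn)
  have hef : f = e := by
    rw [← commutatorElement_inv, c, mul_inv_rev, ha.wz.pre.inv_eq,
      inv_eq_of_mul_eq_one_right (hb.E_sq he he'), ← ha.wz.pre.central e he] at c'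
    exact (mul_right_cancel c').symm
  subst hef
  set S := shOf ha.wz.pre
  obtain ⟨x, hx, cx⟩ := ha.exists_x S Ua.not_sw hf hf' f1
  obtain ⟨y, hy, cy⟩ := hb.exists_x S Ub.not_sw hf he' f1
  have hab := IsU.mul_mem_of_meet hS Ua Ub S (e := S.π f)
    (fun c => ((S.π_eq_zero' hf).1 c).elim f1 (ha.E_ne_z hf')) ⟨_, ha.N_of_x S hf hx cx⟩
    ⟨_, hb.N_of_x S hf hy cy⟩
  rcases Ua.coset Ub hab with rfl | ⟨g, -, hg', -, rfl⟩
  · exact hn rfl
  · exact hn (ha.comm_coset hg')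

/-- The further points on the line through `z` and `t`. -/
theorem Pr.third (hS : AU o) (h : Pr o z t) {e : G} (he : e ∈ qOf z) (he' : e ∈ qOf t)
    (h1 : e ≠ 1) : Pr o z (z * t * e) ∧ Pr o t (z * t * e) ∧ z * t ∈ qOf (z * t * e) := by
  have U := h.isU hS
  set S := shOf h.wz.pre
  obtain ⟨x, hx, c⟩ := h.exists_x S U.not_sw he he' h1
  have ez := h.wz.pre.central e he
  have et := h.wt.pre.central e he'
  have hs : x * t * x⁻¹ = z * t * e := by
    rw [h.conj_eq, c, ez, ← mul_assoc, h.comm]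
  have cj : IsConj t (z * t * e) := hs ▸ isConj_conj x t
  have hxe : x * e = e * x := by
    refine (S.b_π x hx e he).1 ?_
    rw [← h.N_of_x S he hx c]
    exact h.typeA' S U.not_sw _
  have hes : e ∈ qOf (z * t * e) := by
    have := mem_qOf_conj (g := x) he'
    rwa [hxe, mul_inv_cancel_right, hs] at this
  refine ⟨⟨h.wz, h.cj.trans cj, fun c => h.not_mem ?_, ?_⟩, ⟨h.wt, cj, fun c => ?_, ?_⟩, ?_⟩
  · have : t = e⁻¹ := by
      rw [mul_assoc, mul_eq_left] at c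
      exact eq_inv_of_mul_eq_one_left c
    exact this ▸ inv_mem he
  · rw [mul_assoc, ez, ← mul_assoc, mul_assoc z t z, h.comm, ← mul_assoc, ← mul_assoc,
      ← mul_assoc]
  · rw [← h.comm, mul_assoc, mul_eq_left] at c
    refine h.E_ne_z he' ?_
    rw [eq_inv_of_mul_eq_one_right c, h.wz.pre.inv_eq]
  · rw [mul_assoc, et, ← mul_assoc, ← mul_assoc, ← mul_assoc, h.comm]
  · have := mul_mem (h.wt.conj cj).pre.mem (inv_mem hes)
    rwa [mul_inv_cancel_right] at this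

/-- An involution normalizing the pair centralizes a further point of the line. -/
theorem Pr.exists_fix (hS : AU o) (h : Pr o z t) {d : G} (hd : d * d = 1)
    (hn : (d * z * d⁻¹ = z ∧ d * t * d⁻¹ = t) ∨ (d * z * d⁻¹ = t ∧ d * t * d⁻¹ = z)) :
    ∃ e ∈ qOf z, e ∈ qOf t ∧ e ≠ 1 ∧ d * (z * t * e) = z * t * e * d := by
  obtain ⟨e, -, he, he', -, -, e1, -⟩ := (h.isU hS).ex
  have hE : d * e * d⁻¹ ∈ qOf z ∧ d * e * d⁻¹ ∈ qOf t := by
    have h1 := mem_qOf_conj (g := d) he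
    have h2 := mem_qOf_conj (g := d) he'
    rcases hn with ⟨c1, c2⟩ | ⟨c1, c2⟩ <;> rw [c1] at h1 <;> rw [c2] at h2
    exacts [⟨h1, h2⟩, ⟨h2, h1⟩]
  have hw : d * (z * t) * d⁻¹ = z * t := by
    rw [← conj_mul]
    rcases hn with ⟨c1, c2⟩ | ⟨c1, c2⟩ <;> rw [c1, c2]
    exact h.comm
  have fin : ∀ f, d * f * d⁻¹ = f → d * (z * t * f) = z * t * f * d := fun f hf => by
    rw [← mul_inv_eq_iff_eq_mul, ← conj_mul, hw, hf]
  by_cases c : d * e * d⁻¹ = e
  · exact ⟨e, he, he', e1, fin e c⟩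
  · refine ⟨e * (d * e * d⁻¹), mul_mem he hE.1, mul_mem he' hE.2, fun c' => c ?_, fin _ ?_⟩
    · exact mul_left_cancel (c'.trans (h.E_sq he he').symm)
    · rw [← conj_mul, show d * (d * e * d⁻¹) * d⁻¹ = (d * d) * e * (d * d)⁻¹ by group, hd, one_mul,
        inv_one, mul_one]
      exact h.E_comm he he' hE.1 (h.wt.pre.central _ hE.2)

/-- No conjugate of `z` interchanges two commuting conjugates. -/
theorem Pr.noswap (hS : AU o) (h : Pr o z t) {d : G} (hd : IsConj z d) : d * z * d⁻¹ ≠ t := by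
  intro c
  have wd := h.wz.conj hd
  have c' : d * t * d⁻¹ = z := by
    rw [← c, show d * (d * z * d⁻¹) * d⁻¹ = (d * d) * z * (d * d)⁻¹ by group, wd.pre.mul_self,
      one_mul, inv_one, mul_one]
  obtain ⟨e, he, he', e1, hc⟩ := h.exists_fix hS wd.pre.mul_self (Or.inr ⟨c, c'⟩)
  obtain ⟨p1, -, hm⟩ := h.third hS he he' e1
  have hne : d * z ≠ z * d := fun k => h.ne (by rw [← c, k, mul_inv_cancel_right])
  refine hne (Pr.comm_of_mem hS (z := z * t * e) ⟨p1.wt, p1.cj.symm.trans hd, ?_, hc⟩ p1.symm ?_)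
  · rintro rfl
    exact hne p1.comm
  · rwa [commutatorElement_def, c, h.wz.pre.inv_eq, h.comm]

omit [Finite G] [Fact (Big o)] in
theorem Pr.w_sq (h : Pr o z t) : z * t * (z * t) = 1 :=
  invol_mul_self_of_commute h.zz h.tt h.comm.symm

omit [Finite G] [Fact (Big o)] in
theorem Pr.w_ne (h : Pr o z t) : z * t ≠ 1 := fun c =>
  h.ne (mul_left_cancel (c.trans h.zz.symm))

/-- The centralizer of `z t` normalizes the pair. -/
theorem Pr.cent_mul (hS : AU o) (h : Pr o z t) {g : G} (hg : g * (z * t) = z * t * g) :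
    (g * z * g⁻¹ = z ∧ g * t * g⁻¹ = t) ∨ (g * z * g⁻¹ = t ∧ g * t * g⁻¹ = z) := by
  set w := z * t with hw
  have w2 : orderOf w = 2 := orderOf_eq_two_of h.w_ne h.w_sq
  set C := centralizer ({w} : Set G)
  set N := (zpowers w).subgroupOf C
  have : N.Normal := ⟨fun n hn g => by
    rw [mem_subgroupOf] at hn ⊢
    rcases (mem_zpowers_iff_of_orderOf_two w2).1 hn with c | c
    · simp [c]
    · simp only [coe_mul, coe_inv, c, conj_eq_of_mem_C g.2, mem_zpowers]⟩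
  set φ := QuotientGroup.mk' N
  have hk : ∀ x : C, φ x = 1 ↔ (x : G) = 1 ∨ (x : G) = w := fun x => by
    rw [← mem_zpowers_iff_of_orderOf_two w2, ← mem_subgroupOf]
    exact QuotientGroup.eq_one_iff x
  have zw : z * w = t := by rw [hw, ← mul_assoc, h.zz, one_mul]
  have wz : w * z = t := by rw [hw, mul_assoc, h.comm, ← mul_assoc, h.zz, one_mul]
  have hzC : z ∈ C := mem_C.2 (zw.trans wz.symm)
  have hE : ∀ e ∈ qOf z, e ∈ qOf t → e ∈ C := fun e he he' => mem_C.2 (by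
    rw [hw, ← mul_assoc, h.wz.pre.central e he, mul_assoc, h.wt.pre.central e he', mul_assoc])
  have hwC : w ∈ C := mem_C.2 rfl
  have fpf : ∀ e (he : e ∈ qOf z) (he' : e ∈ qOf t), e ≠ 1 → ∀ k ∈ oddCore (C ⧸ N),
      φ ⟨e, hE e he he'⟩ * k * (φ ⟨e, hE e he he'⟩)⁻¹ = k⁻¹ := by
    intro e he he' e1 k hk'
    refine inverts_of_fpf (by rw [normalizer_eq_top]; trivial) ?_ ?_ hk'
    · rw [← map_mul, hk]; exact Or.inl (h.E_sq he he')
    rw [eq_bot_iff]
    rintro k ⟨hkO, hkc⟩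
    obtain ⟨k₀, rfl⟩ : ∃ k₀, φ k₀ = k := QuotientGroup.mk'_surjective N k
    replace hkO : φ k₀ ∈ oddCore (C ⧸ N) := hkO
    obtain ⟨p1, -, hm⟩ := h.third hS he he' e1
    have hodd : Odd (orderOf (φ k₀)) :=
      (odd_card_oddCore (C ⧸ N)).of_dvd_nat (by
        rw [← orderOf_mk (φ k₀) hkO]; exact orderOf_dvd_natCard _)
    set n := orderOf (φ k₀)
    obtain ⟨m, hm2⟩ : Even (n + 1) := hodd.add_one
    have sqw : ∀ x : G, x = 1 ∨ x = w → x ^ (n + 1) = 1 := by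
      rintro x (rfl | rfl)
      · simp
      · rw [hm2, ← two_mul, pow_mul, pow_two, h.w_sq, one_pow]
    set k : G := (k₀ : G) ^ (n + 1) with hkd
    have hkC : k ∈ C := pow_mem k₀.2 _
    have hφ : φ ⟨k, hkC⟩ = φ k₀ := by
      rw [show (⟨k, hkC⟩ : C) = k₀ ^ (n + 1) from rfl, map_pow, pow_succ, pow_orderOf_eq_one,
        one_mul]
    have hkn : k ^ n = 1 := by
      rw [hkd, ← pow_mul, mul_comm, pow_mul]
      refine sqw _ ?_
      rw [← SubgroupClass.coe_pow, ← hk, map_pow, pow_orderOf_eq_one]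
    have hke : k * e = e * k := by
      have h1 : φ ((k₀ : C)⁻¹ * (⟨e, hE e he he'⟩ * k₀ * ⟨e, hE e he he'⟩⁻¹)) = 1 := by
        simp only [map_mul, map_inv]
        rw [← mem_C.1 hkc]; group
      rw [hk] at h1
      have h2 : Commute (k₀ : G) ((k₀ : G)⁻¹ * (e * k₀ * e⁻¹)) := by
        rcases h1 with c | c <;> simp only [coe_mul, coe_inv] at c <;> rw [c]
        exacts [Commute.one_right _, mem_C.1 k₀.2]
      have h3 := h2.mul_pow (n + 1)
      rw [sqw ((k₀ : G)⁻¹ * (e * k₀ * e⁻¹)) h1, mul_inv_cancel_left, mul_one, conj_pow] at h3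
      rw [← mul_inv_eq_iff_eq_mul.1 h3]
    have hks : k ∈ centralizer ({w * e} : Set G) := mem_C.2 (by
      rw [← mul_assoc, mem_C.1 hkC, mul_assoc w, hke, mul_assoc w])
    set S := shOf p1.wt.pre
    have hw0 : S.N k (S.π w) = 0 := S.N_π_of_comm hks hm (mem_C.1 hkC)
    have h1 : ∀ v, S.b v (S.π w) = 0 → S.N k (S.N k v) = 0 := by
      intro v hv
      obtain ⟨x, hx, rfl⟩ := S.π_surj v
      have hxC : x ∈ C := mem_C.2 ((S.b_π x hx w hm).1 hv)
      have h2 : φ ⁅(⟨k, hkC⟩ : C), ⟨x, hxC⟩⁆ = 1 := by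
        refine eq_one_of_odd_of_pow (m := 2) (odd_card_oddCore (C ⧸ N)) ?_ ?_
        · have : φ ⁅(⟨k, hkC⟩ : C), ⟨x, hxC⟩⁆ ∈ oddCore (C ⧸ N) := by
            rw [map_commutatorElement, hφ, commutatorElement_def, mul_assoc, mul_assoc,
              ← mul_assoc (φ _) (φ k₀)⁻¹]
            exact mul_mem hkO (Normal.conj_mem inferInstance _ (inv_mem hkO) _)
          exact congrArg Subtype.val (pow_card_eq_one' (x := (⟨_, this⟩ : oddCore (C ⧸ N))))
        · rw [← map_pow, hk]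
          exact Or.inl (SympPair.pow_four p1.wt.pre.toSympPair (S.comm_mem hks hx))
      rw [S.N_π hks hx]
      rcases (hk _).1 h2 with c | c
      · rw [show ⁅k, x⁆ = 1 from c, S.π_one, map_zero]
      · rw [show ⁅k, x⁆ = w from c, hw0]
    have hk1 : k = 1 := S.eq_one_of_nilp hks hodd hkn fun v => by
      rw [h1 (S.N k v) (by rw [S.b_N hks, S.N_inv_eq_zero hks hw0, map_zero]), map_zero]
    rw [mem_bot]
    exact hφ.symm.trans ((hk _).2 (Or.inl hk1))
  have hO : oddCore (C ⧸ N) = ⊥ := by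
    rw [eq_bot_iff]
    intro k hkO
    obtain ⟨e₁, e₂, a1, b1, a2, b2, n1, n2, n⟩ := (h.isU hS).ex
    have n3 : e₁ * e₂ ≠ 1 := fun c => n (mul_right_cancel (c.trans (h.E_sq a2 b2).symm))
    have k3 := fpf _ (mul_mem a1 a2) (mul_mem b1 b2) n3 k hkO
    rw [show (⟨e₁ * e₂, hE _ (mul_mem a1 a2) (mul_mem b1 b2)⟩ : C) =
      ⟨e₁, hE _ a1 b1⟩ * ⟨e₂, hE _ a2 b2⟩ from rfl, map_mul, mul_inv_rev, mul_assoc (φ _) (φ _),
      ← mul_assoc _ (φ _)⁻¹, mul_assoc (φ _) _ (φ _)⁻¹, fpf _ a2 b2 n2 k hkO,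
      fpf _ a1 b1 n1 _ (inv_mem hkO), inv_inv] at k3
    refine eq_one_of_odd_of_pow (m := 1) (odd_card_oddCore (C ⧸ N))
      (congrArg Subtype.val (pow_card_eq_one' (x := (⟨_, hkO⟩ : oddCore (C ⧸ N))))) ?_
    rw [pow_one, pow_two]
    exact eq_inv_iff_mul_eq_one.1 k3
  have other : ∀ g ∈ C, g * t * g⁻¹ = g * z * g⁻¹ * w := fun g hg => by
    rw [← zw, ← conj_mul, conj_eq_of_mem_C hg]
  have iso : ∀ g ∈ C, g * z * g⁻¹ * z = z * (g * z * g⁻¹) →
      g * z * g⁻¹ = z ∨ g * z * g⁻¹ = t := by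
    intro g hg hc
    by_contra! hn
    have pz : Pr o z (g * z * g⁻¹) := ⟨h.wz, isConj_conj _ _, hn.1, hc⟩
    have hzw : g * z * g⁻¹ ∈ C := mul_mem (mul_mem hg hzC) (inv_mem hg)
    have pt : Pr o z (g * t * g⁻¹) := by
      refine ⟨h.wz, h.cj.trans (isConj_conj _ _), fun c => hn.2 ?_, ?_⟩
      · rw [other g hg] at c
        rw [eq_mul_inv_of_mul_eq c, inv_eq_of_mul_eq_one_right h.w_sq, zw]
      · rw [other g hg, mul_assoc, ← mem_C.1 hzC, ← mul_assoc, hc, mul_assoc]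
    refine IsU.no_triple hS (h.isU hS) (pz.isU hS) (pt.isU hS) ?_
    rw [other g hg, mul_assoc, ← mul_assoc (g * z * g⁻¹), pz.tt, one_mul, hw, ← h.comm,
      ← mul_assoc, h.tt, one_mul]
    exact h.wz.pre.mem
  have hI : IsIsolatedInvolution (φ ⟨z, hzC⟩) := by
    refine ⟨orderOf_eq_two_of (fun c => ?_) ?_, fun g hc => ?_⟩
    · rcases (hk _).1 c with c | c
      exacts [h.wz.pre.ne_one c, h.zt_ne_z c.symm]
    · rw [← map_mul, hk]; exact Or.inl h.zz
    obtain ⟨g, rfl⟩ : ∃ k₀, φ k₀ = g := QuotientGroup.mk'_surjective N g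
    have h1 : φ ⁅g * ⟨z, hzC⟩ * g⁻¹, (⟨z, hzC⟩ : C)⁆ = 1 := by
      rw [map_commutatorElement, commutatorElement_eq_one_iff_mul_comm]
      simp only [map_mul, map_inv]
      exact hc.symm
    have h2 : (g : G) * z * (g : G)⁻¹ * z = z * ((g : G) * z * (g : G)⁻¹) := by
      rcases (hk _).1 h1 with c | c
      · exact commutatorElement_eq_one_iff_mul_comm.1 c
      · refine (h.noswap hS (isConj_conj (g : G) z) ?_).elim
        rw [← wz, ← c]
        change _ = ⁅(g : G) * z * (g : G)⁻¹, z⁆ * z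
        rw [commutatorElement_def, inv_mul_cancel_right]
    rw [← map_inv, ← map_mul, ← map_mul]
    rcases iso g g.2 h2 with c | c
    · exact congrArg _ (Subtype.ext c)
    · rw [← mul_inv_eq_one, ← map_inv, ← map_mul, hk]
      right
      change (g : G) * z * (g : G)⁻¹ * z⁻¹ = w
      rw [c, h.wz.pre.inv_eq, h.comm]
  have hgC : g ∈ C := mem_C.2 hg
  have h3 := mem_center_iff.1 (Block.Princ.zstar_center hI hO) (φ ⟨g, hgC⟩)
  have h4 : φ ⁅(⟨g, hgC⟩ : C), (⟨z, hzC⟩ : C)⁆ = 1 := by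
    rw [map_commutatorElement, commutatorElement_eq_one_iff_mul_comm, h3]
  rw [other g hgC]
  rcases (hk _).1 h4 with c | c
  · have : g * z * g⁻¹ = z := mul_inv_eq_one.1 c
    exact Or.inl ⟨this, by rw [this, zw]⟩
  · have : g * z * g⁻¹ = t := by rw [← wz, ← c]; exact (inv_mul_cancel_right _ _).symm
    exact Or.inr ⟨this, by rw [this, hw, ← h.comm, ← mul_assoc, h.tt, one_mul]⟩

/-- A conjugate of `z` centralizing `z t` centralizes both. -/
theorem Pr.comm_of_comm_mul (hS : AU o) (h : Pr o z t) {d : G} (hd : IsConj z d)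
    (hg : d * (z * t) = z * t * d) : d * z = z * d ∧ d * t = t * d := by
  rcases h.cent_mul hS hg with ⟨c1, c2⟩ | ⟨c1, -⟩
  · exact ⟨mul_inv_eq_iff_eq_mul.1 c1, mul_inv_eq_iff_eq_mul.1 c2⟩
  · exact (h.noswap hS hd c1).elim

/-- Two points collinear with `z` generate, modulo `Q`, a group of order `6` or a `2`-group. -/
theorem IsU.pow_mem {a b : G} (ha : IsU o z a) (hb : IsU o z b) :
    (a * b) ^ 3 ∈ qOf z ∨ (a * b) ^ 4 ∈ qOf z := by
  set S := shOf ha.pr.wz.pre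
  have key : ∀ {a : G}, IsU o z a → ∃ u w, (∀ v, S.N a v = S.b v u • w + S.b v w • u) ∧
      S.b u w = 0 := by
    intro a ha
    obtain ⟨v, hv⟩ := ha.exists_N_ne S
    obtain ⟨w, hw, w0, n⟩ := ha.exists_other S (S.N a v)
    refine ⟨_, w, ha.formula' S ⟨v, rfl⟩ hw hv w0 n, ?_⟩
    obtain ⟨x, rfl⟩ := hw
    rw [S.b_N' ha.pr.memH ha.pr.tt_mem, S.N_N ha.pr.memH ha.pr.tt_mem, map_zero]
  obtain ⟨e₁, e₂, fa, he⟩ := key ha
  obtain ⟨f₁, f₂, fb, hf⟩ := key hb
  have he' : S.b e₂ e₁ = 0 := by rw [S.b_comm, he]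
  have hf' : S.b f₂ f₁ = 0 := by rw [S.b_comm, hf]
  have mab := mul_mem ha.pr.memH hb.pr.memH
  have ρ : ∀ v, S.ρ (a * b) v = v + S.N b v + S.N a (v + S.N b v) := fun v => by
    rw [S.ρ_mul ha.pr.memH hb.pr.memH, S.ρ_eq b, S.ρ_eq a]
  have aa := S.N_N ha.pr.memH ha.pr.tt_mem
  have bb := S.N_N hb.pr.memH hb.pr.tt_mem
  set δ := S.b e₁ f₁ * S.b e₂ f₂ + S.b e₁ f₂ * S.b e₂ f₁ with hδ
  have two : (2 : ZMod 2) = 0 := rfl
  have aba : ∀ v, S.N a (S.N b (S.N a v)) = δ • S.N a v := fun v => by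
    simp only [fa, fb, map_add, map_smul, LinearMap.add_apply, LinearMap.smul_apply, smul_eq_mul,
      S.b_comm f₁, S.b_comm f₂, hδ]
    match_scalars
    · linear_combination (S.b v e₂ * S.b e₁ f₁ * S.b e₁ f₂) * two
    · linear_combination (S.b v e₁ * S.b e₂ f₁ * S.b e₂ f₂) * two
  have bab : ∀ v, S.N b (S.N a (S.N b v)) = δ • S.N b v := fun v => by
    simp only [fa, fb, map_add, map_smul, LinearMap.add_apply, LinearMap.smul_apply, smul_eq_mul,
      S.b_comm f₁, S.b_comm f₂, hδ]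
    match_scalars
    · linear_combination (S.b v f₂ * S.b e₁ f₁ * S.b e₂ f₁) * two
    · linear_combination (S.b v f₁ * S.b e₁ f₂ * S.b e₂ f₂) * two
  rcases z2_cases δ with c | c <;> simp only [c, zero_smul, one_smul] at aba bab
  · refine Or.inr (S.mem_of_ρ (Subgroup.pow_mem _ mab _) fun v => ?_)
    rw [show (a * b) ^ 4 = a * b * (a * b * (a * b * (a * b))) by simp only [pow_succ, pow_zero,
      one_mul, mul_assoc], S.ρ_mul mab (mul_mem mab (mul_mem mab mab)),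
      S.ρ_mul mab (mul_mem mab mab), S.ρ_mul mab mab]
    simp only [ρ, map_add, aa, bb, aba, bab, map_zero, add_zero]
    apply z2_eq
    match_scalars <;> decide
  · refine Or.inl (S.mem_of_ρ (Subgroup.pow_mem _ mab _) fun v => ?_)
    rw [show (a * b) ^ 3 = a * b * (a * b * (a * b)) by simp only [pow_succ, pow_zero,
      one_mul, mul_assoc], S.ρ_mul mab (mul_mem mab mab), S.ρ_mul mab mab]
    simp only [ρ, map_add, aa, bb, aba, bab, map_zero, add_zero]
    apply z2_eq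
    match_scalars <;> decide

/-- Products of two conjugates of `z` have odd order or order two. -/
theorem WC.odd_or (hS : AU o) (h : WC o z) {a b : G} (ha : IsConj z a) (hb : IsConj z b) :
    Odd (orderOf (a * b)) ∨ orderOf (a * b) = 2 := by
  refine (Cfsg.Agent.S5363.result (D := {d | IsConj z d}) (fun d hd => (h.conj hd).pre.ord)
    (fun g d hd => IsConj.trans hd (isConj_conj g d))).2 ?_ a ha b hb
  intro a ha b hb hne hc
  have p : Pr o a b := ⟨h.conj ha, IsConj.trans (IsConj.symm ha) hb, hne, hc.symm⟩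
  ext y
  refine ⟨fun ⟨hy, c⟩ => ?_, fun ⟨⟨hy, c⟩, _, c'⟩ => ⟨hy, c.mul_left c'⟩⟩
  obtain ⟨c1, c2⟩ := p.comm_of_comm_mul hS (IsConj.trans (IsConj.symm ha) hy) c.symm
  exact ⟨⟨hy, c1.symm⟩, hy, c2.symm⟩

/-- Two conjugates with a common neighbour. -/
theorem WC.three_of_nb (hS : AU o) (h : WC o z) {a b : G} (ha : IsConj z a) (hb : IsConj z b)
    (ca : a * z = z * a) (cb : b * z = z * b) : (a * b) ^ 2 = 1 ∨ (a * b) ^ 3 = 1 := by
  have aa := (h.conj ha).pre.mul_self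
  have bb := (h.conj hb).pre.mul_self
  by_cases e1 : a = z
  · subst e1
    exact Or.inl (by rw [pow_two]; exact invol_mul_self_of_commute aa bb cb.symm)
  by_cases e2 : b = z
  · subst e2
    exact Or.inl (by rw [pow_two]; exact invol_mul_self_of_commute aa bb ca)
  rcases h.odd_or hS ha hb with ho | ho
  swap
  · exact Or.inl (ho ▸ pow_orderOf_eq_one _)
  rcases IsU.pow_mem (Pr.isU hS ⟨h, ha, e1, ca⟩) (Pr.isU hS ⟨h, hb, e2, cb⟩) with c | c
  · refine Or.inr (eq_one_of_odd_of_pow (m := 2) ho ?_ (SympPair.pow_four h.pre.toSympPair c))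
    rw [← pow_mul, mul_comm, pow_mul, pow_orderOf_eq_one, one_pow]
  · left
    rw [eq_one_of_odd_of_pow (m := 4) ho (pow_orderOf_eq_one _) (by
      rw [← SympPair.pow_four h.pre.toSympPair c, ← pow_mul]; rfl), one_pow]

/-- Every conjugate of `z` has a common neighbour with `z`. -/
theorem Pr.exists_nb (hS : AU o) (h : Pr o z t) {p : G} (hp : IsConj z p) :
    ∃ s, IsConj z s ∧ z * s = s * z ∧ p * s = s * p := by
  set w := z * t with hw
  have pp := (h.wz.conj hp).pre.mul_self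
  have ww : w * w = 1 := h.w_sq
  have nc := (h.isU hS).not_conj_mul
  rcases Nat.even_or_odd (orderOf (p * w)) with ⟨m, hm⟩ | ho
  swap
  · obtain ⟨j, hj⟩ := invol_conj_of_odd pp ww ho (pow_orderOf_eq_one _)
    exact (nc (hp.trans (hj ▸ (isConj_conj _ _).symm))).elim
  set c := (p * w) ^ m with hc
  have cc : c * c = 1 := by rw [hc, ← pow_add, ← hm, pow_orderOf_eq_one]
  have c1 : c ≠ 1 := fun e => by
    have h1 := orderOf_pos (p * w)
    have := Nat.le_of_dvd (by omega) (orderOf_dvd_of_pow_eq_one e)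
    omega
  obtain ⟨cp, cw⟩ := invol_commute_pow pp ww cc
  rcases Nat.even_or_odd' m with ⟨j, rfl | rfl⟩
  · have h1 : IsConj p (p * c) := by rw [hc, invol_mul_pow_even pp ww]; exact isConj_conj _ _
    have q : Pr o p (p * c) := ⟨h.wz.conj hp, h1, by simpa using c1, by
      rw [mul_assoc, ← cp.eq]⟩
    have e : p * (p * c) = c := by rw [← mul_assoc, pp, one_mul]
    obtain ⟨f, hf, hf', f1, k⟩ := q.exists_fix hS ww (q.cent_mul hS (by rw [e]; exact cw))
    obtain ⟨q1, -, -⟩ := q.third hS hf hf' f1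
    exact ⟨_, hp.trans q1.cj, (h.comm_of_comm_mul hS (hp.trans q1.cj) k.symm).1.symm,
      q1.comm.symm⟩
  -- the odd case
  set g := ((p * w) ^ j)⁻¹ with hg
  have e1 : p * c = g * w * g⁻¹ := invol_mul_pow_odd pp ww j
  have gc : g * c * g⁻¹ = c := by
    rw [hg, hc, inv_inv, mul_assoc, ← pow_add, add_comm, pow_add, inv_mul_cancel_left]
  set p₁ := g⁻¹ * p * g⁻¹⁻¹ with hp₁
  have e2 : p₁ = w * c := by
    have : p = g * (w * c) * g⁻¹ := by
      rw [← conj_mul, ← e1, gc, mul_assoc, cc, mul_one]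
    rw [hp₁, this]; group
  have hp1 : IsConj z p₁ := hp.trans (isConj_conj _ _)
  obtain ⟨z1, t1⟩ := h.comm_of_comm_mul hS hp1 (by
    rw [e2, ← hw, mul_assoc, ← cw.eq])
  have e3 : c = p₁ * w := by rw [e2, cw.eq, mul_assoc, ww, mul_one]
  by_cases a1 : p₁ = z
  · refine ⟨t, h.cj, h.comm.symm, ?_⟩
    rw [a1, hw, ← mul_assoc, h.zz, one_mul] at e3
    rw [← e3]; exact cp
  by_cases a2 : p₁ = t
  · refine ⟨z, IsConj.refl _, rfl, ?_⟩
    rw [a2, hw, ← h.comm, ← mul_assoc, h.tt, one_mul] at e3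
    rw [← e3]; exact cp
  have q1 : Pr o z p₁ := ⟨h.wz, hp1, a1, z1⟩
  obtain ⟨f, hf, hf', f1, a3⟩ : ∃ f ∈ qOf z, f ∈ qOf t ∧ f ≠ 1 ∧ p₁ ≠ w * f := by
    obtain ⟨e₁, e₂, a1, b1, a2, b2, n1, n2, n⟩ := (h.isU hS).ex
    by_cases k : p₁ = w * e₁
    · exact ⟨e₂, a2, b2, n2, fun k' => n (mul_left_cancel (k.symm.trans k'))⟩
    · exact ⟨e₁, a1, b1, n1, k⟩
  obtain ⟨r1, r2, hm'⟩ := h.third hS hf hf' f1
  set s := w * f with hs
  refine ⟨s, r1.cj, r1.comm.symm, ?_⟩
  have ps : p₁ * s = s * p₁ := by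
    refine Pr.comm_of_mem hS q1 r1 ?_
    set S := shOf h.wz.pre
    have : ⁅p₁, s⁆ = t * ⁅p₁, z * f⁆ * t⁻¹ := by
      rw [hs, hw, ← h.comm, mul_assoc t, Pr.comm_mul, commutatorElement_eq_one_iff_mul_comm.2 t1,
        one_mul]
    rw [this]
    exact S.conj_mem h.memH (S.comm_mem q1.memH (mul_mem h.wz.pre.mem hf))
  have sw : s * w = w * s := (r1.wt.pre.central w hm').symm
  have sc : s * c = c * s := by rw [e3, ← mul_assoc, ← ps, mul_assoc p₁, sw, mul_assoc p₁]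
  rcases h.wz.odd_or hS hp r1.cj with ho | ho
  swap
  · exact invol_commute_of_mul pp r1.tt (by rw [← pow_two, ← ho, pow_orderOf_eq_one])
  exfalso
  obtain ⟨i, hi⟩ := invol_conj_of_odd pp r1.tt ho (pow_orderOf_eq_one _)
  set k := ((p * s) ^ i)⁻¹ with hk
  have kc : k * c * k⁻¹ = c := by
    have : Commute (p * s) c := Commute.mul_left cp sc
    rw [((this.pow_left i).inv_left).eq, mul_inv_cancel_right]
  have u1 := (Pr.isU hS (⟨r1.wt, r1.cj.symm.trans hp1, a3, ps⟩ : Pr o s p₁)).conj k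
  have u2 := (q1.symm.isU hS).conj g
  have u3 := (Pr.isU hS (⟨q1.wt, hp1.symm.trans h.cj, Ne.symm a2, t1.symm⟩ : Pr o p₁ t)).conj g
  have e4 : g * p₁ * g⁻¹ = p := by rw [hp₁]; group
  rw [hi] at u1
  rw [e4] at u2 u3
  refine IsU.no_triple hS u2 u3 u1 ?_
  have m1 := mem_qOf_conj (g := k) hm'
  rw [hi] at m1
  rw [conj_mul, ← hw, ← e1, e2, ← conj_mul, kc, mul_assoc, ← mul_assoc c]
  refine mul_mem (h.wz.conj hp).pre.mem ?_
  rw [← kc, conj_mul, conj_mul, ← cw.eq, mul_assoc w, cc, mul_one]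
  exact m1

/-- The class of `z` is a set of `3`-transpositions. -/
theorem Pr.three (hS : AU o) (h : Pr o z t) {a b : G} (ha : IsConj z a) (hb : IsConj z b) :
    (a * b) ^ 2 = 1 ∨ (a * b) ^ 3 = 1 := by
  obtain ⟨g, rfl⟩ := isConj_iff.1 ha
  obtain ⟨s, hs, c1, c2⟩ := (h.conj g).exists_nb hS (ha.symm.trans hb)
  exact (h.wz.conj (ha.trans hs)).three_of_nb hS hs.symm (hs.symm.trans (ha.symm.trans hb)) c1 c2

end Cfsg.Lib.LX.Gn
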